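import Cfsg.Agent.OddCount.Partition
import Cfsg.Agent.OddPrime.Centralizer
import Cfsg.Agent.OddStep.SigmaNil
import Cfsg.Agent.OddStep.Statements1423
import Cfsg.Agent.Uniqueness.NonabelianUnique
import Cfsg.Agent.S1415
import Cfsg.Agent.S1416
import Cfsg.Agent.OddPrime.Step
import Cfsg.Agent.S1414
import Cfsg.Agent.S1417
import Cfsg.Agent.S1418

/-!
The inputs of the counting lemmas about `σ(M)`, from the sections 12 and 13.
-/

set_option autoImplicit false

namespace CfsgLib.OddCount

universe u

/-- The section 12 facts used in section 13. -/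
theorem earlierPrime : OddPrime.Earlier.{u} :=
  have h17 : OddStep.P1417.{u} := @Cfsg.Agent.S1417.result
  have h20 : OddStep.P1420.{u} := SigmaNil.p1420_of @Cfsg.Agent.S1415.result
    @Cfsg.Agent.S1416.result h17 @Cfsg.Agent.S1418.result
  have h22 : OddStep.P1422.{u} := Uniqueness.nonabelian_unique @Cfsg.Agent.S1416.result h17
  ⟨@Cfsg.Agent.S1415.result, @Cfsg.Agent.S1416.result, h17, @Cfsg.Agent.S1418.result, h20, h22,
    SigmaEmbed.p1423_of h22, SigmaEmbed.p1424_of h20, SigmaEmbed.p1426_of h22 h20⟩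

theorem sigmaFacts_inst : SigmaFacts.{u} :=
  have hE := earlierPrime.{u}
  ⟨@Cfsg.Agent.S1414.result, hE.h1417, hE.h1422, hE.h1423, hE.h1426,
    OddPrime.cyclic_sylow_action hE, OddPrime.tau_one_containment hE⟩

end CfsgLib.OddCount
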