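import Cfsg.Agent.OddCount.Earlier
import Cfsg.Agent.OddCount.SigmaInstance
import Cfsg.Agent.S1425
import Cfsg.Agent.S1429
import Cfsg.Agent.S1430

/-!
The inputs of the counting section, from the sections 12 and 13.
-/

set_option autoImplicit false

namespace CfsgLib.OddCount

universe u

theorem sectionFacts_inst : SectionFacts.{u} :=
  ⟨sigmaFacts_inst, @Cfsg.Agent.S1418.result, earlierPrime.h1420, earlierPrime.h1424,
    @Cfsg.Agent.S1425.result, @Cfsg.Agent.S1429.result, @Cfsg.Agent.S1430.result⟩

end CfsgLib.OddCount
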